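import Cfsg.Agent.H773.Pw.Spor
import Cfsg.Agent.H904.HSIso
import Cfsg.Agent.H904.McLCent
import Cfsg.Agent.TypeM.FactsMcL

/-!
# `HS` and `McL`: every element is a product of 70 `p`-elements (S2454, helper269)
-/

set_option autoImplicit false

namespace Cfsg.Agent.H269.Pw

open Cfsg Subgroup Equiv Cfsg.Agent.H514.DP Cfsg.Agent.H773.Pw

universe u

/-- a prime `p` dividing `|N(⟨y⟩) : C(⟨y⟩)|`, from the orders -/
theorem dvd_relIndex {G : Type*} [Group G] [Finite G] {p N : ℕ} (hp : p.Prime) {y : G}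
    (hN : Nat.card (normalizer (zpowers y : Set G)) = N) {c : ℕ}
    (hc : Nat.card (centralizer (zpowers y : Set G)) ∣ c) {a : ℕ} (h1 : p ^ a ∣ N) (h2 : ¬ p ^ a ∣ c) :
    p ∣ (centralizer (zpowers y : Set G)).relIndex (normalizer (zpowers y : Set G)) := by
  have h3 := Subgroup.relIndex_mul_relIndex (⊥ : Subgroup G) (centralizer (zpowers y : Set G))
    (normalizer (zpowers y : Set G)) bot_le (centralizer_le_normalizer _)
  rw [relIndex_bot_left, relIndex_bot_left, hN] at h3
  by_contra hcon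
  have h4 : (p ^ a).Coprime ((centralizer (zpowers y : Set G)).relIndex (normalizer (zpowers y : Set G))) :=
    Nat.Coprime.pow_left _ ((Nat.Prime.coprime_iff_not_dvd hp).2 hcon)
  exact h2 ((h4.dvd_of_dvd_mul_right (h3 ▸ h1)).trans hc)

theorem centralizer_zpowers_eq {G : Type*} [Group G] (y : G) :
    centralizer (zpowers y : Set G) = centralizer ({y} : Set G) := by
  rw [zpowers_eq_closure, centralizer_closure]

/-! ### `HS` -/

theorem hs_na {S : Type u} [Group S] [Finite S] [IsSimpleGroup S] (h : Spor.IsoHS S) : ¬ ∀ a b : S, a * b = b * a := by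
  exact H253.TC.not_comm_of_card (KFacts.HS.card h) (by norm_num) (p := 11) (by norm_num) (by norm_num) (by norm_num)

theorem hs_deg {S : Type u} [Group S] [Finite S] [IsSimpleGroup S] (h : Spor.IsoHS S) : MinDeg S 6 :=
  minDeg_of_prime (KFacts.HS.card h) (by norm_num) (l := 11) (by norm_num) (by norm_num) (by norm_num) (by norm_num)
    (by norm_num) (by norm_num) (by norm_num)

/-- **`HS`** -/
theorem pw_HS {S : Type u} [Group S] [Finite S] [IsSimpleGroup S] (h : Spor.IsoHS S) {p : ℕ} (hp : p.Prime)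
    (hd : p ∣ Nat.card S) : PW p 70 S := by
  have hcard := KFacts.HS.card h
  have h7 : ∀ y : S, orderOf y = 7 → Nat.card (centralizer ({y} : Set S)) ≤ 7 := fun y hy =>
    (H904.HSIso.card_seven h hy).le
  obtain ⟨-, -, h11⟩ := H904.TwoHS.eleven h
  have h11' : ∀ y : S, orderOf y = 11 → Nat.card (centralizer ({y} : Set S)) ≤ 11 := fun y hy => by
    rw [← centralizer_zpowers_eq, (h11 (zpowers y) (by rw [Nat.card_zpowers, hy])).1]
  have hp' : p = 2 ∨ p = 3 ∨ p = 5 ∨ p = 7 ∨ p = 11 := by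
    rw [hcard, show 44352000 = 2 ^ 9 * 3 ^ 2 * 5 ^ 3 * 7 * 11 by norm_num] at hd
    rcases (Nat.Prime.dvd_mul hp).1 hd with hd | hd
    · rcases (Nat.Prime.dvd_mul hp).1 hd with hd | hd
      · rcases (Nat.Prime.dvd_mul hp).1 hd with hd | hd
        · rcases (Nat.Prime.dvd_mul hp).1 hd with hd | hd
          · exact Or.inl ((Nat.prime_dvd_prime_iff_eq hp (by norm_num)).1 (hp.dvd_of_dvd_pow hd))
          · exact Or.inr (Or.inl ((Nat.prime_dvd_prime_iff_eq hp (by norm_num)).1 (hp.dvd_of_dvd_pow hd)))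
        · exact Or.inr (Or.inr (Or.inl ((Nat.prime_dvd_prime_iff_eq hp (by norm_num)).1 (hp.dvd_of_dvd_pow hd))))
      · exact Or.inr (Or.inr (Or.inr (Or.inl ((Nat.prime_dvd_prime_iff_eq hp (by norm_num)).1 hd))))
    · exact Or.inr (Or.inr (Or.inr (Or.inr ((Nat.prime_dvd_prime_iff_eq hp (by norm_num)).1 hd))))
  have hna := hs_na h
  have hD := hs_deg h
  obtain ⟨y7, hy7⟩ := exists_order (K := S) (l := 7) (by norm_num) (by rw [hcard]; norm_num)
  obtain ⟨y11, hy11⟩ := exists_order (K := S) (l := 11) (by norm_num) (by rw [hcard]; norm_num)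
  have hz7 : Nat.card (zpowers y7) = 7 := by rw [Nat.card_zpowers, hy7]
  have hz11 : Nat.card (zpowers y11) = 11 := by rw [Nat.card_zpowers, hy11]
  have hN7 := (H904.TwoHS.seven h (zpowers y7) hz7).2
  have hC7 : Nat.card (centralizer (zpowers y7 : Set S)) ∣ 7 := by
    rw [centralizer_zpowers_eq, H904.HSIso.card_seven h hy7]
  rcases hp' with rfl | rfl | rfl | rfl | rfl
  · exact pw_of_norm hna hp (l := 7) (k := 5) (by norm_num) hy7
      (dvd_relIndex hp hN7 hC7 (a := 1) (by norm_num) (by norm_num)) hD (h7 _ hy7) (by norm_num) (by norm_num)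
      (by norm_num)
  · exact pw_of_norm hna hp (l := 7) (k := 5) (by norm_num) hy7
      (dvd_relIndex hp hN7 hC7 (a := 1) (by norm_num) (by norm_num)) hD (h7 _ hy7) (by norm_num) (by norm_num)
      (by norm_num)
  · exact pw_of_norm hna hp (l := 11) (k := 6) (by norm_num) hy11
      (dvd_relIndex hp (h11 _ hz11).2 (h11 _ hz11).1.dvd (a := 1) (by norm_num) (by norm_num)) hD (h11' _ hy11)
      (by norm_num) (by norm_num) (by norm_num)
  · exact pw_of_order hna hp hd (k := 5) hD h7 (by norm_num) (by norm_num) (by norm_num)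
  · exact pw_of_order hna hp hd (k := 6) hD h11' (by norm_num) (by norm_num) (by norm_num)

/-! ### `McL` -/

/-- the 7-cycle -/
def cyc7 : Perm (Fin 8) := List.formPerm [0, 1, 2, 3, 4, 5, 6]

/-- an involution -/
def inv4 : Perm (Fin 8) := swap 0 1 * swap 2 4

/-- an element of order `7` which is a product of two `2`-elements -/
theorem exists_seven {G : Type*} [Group G] (L : TypeM.Two.MT 8 G) : ∃ y : G, orderOf y = 7 ∧ PE 2 2 y := by
  have h1 : cyc7 ∈ L.K.π.range := by
    rw [L.K.range_eq, Perm.mem_alternatingGroup]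
    decide +kernel
  have h2 : inv4 ∈ L.K.π.range := by
    rw [L.K.range_eq, Perm.mem_alternatingGroup]
    decide +kernel
  obtain ⟨g, hg⟩ := h1
  obtain ⟨a, ha⟩ := h2
  have key : ∀ x, L.K.π x = 1 → x * x = 1 := by
    intro x hx
    rcases (L.K.ker x).1 hx with rfl | rfl
    · exact one_mul 1
    · exact L.K.z_mul_z
  set y : centralizer ({L.t} : Set G) := g ^ 8 with hy
  have hπy : L.K.π y = cyc7 := by rw [hy, map_pow, hg]; decide +kernel
  have hy7 : y ^ 7 = 1 := by
    have h3 : g ^ 7 * g ^ 7 = 1 := key _ (by rw [map_pow, hg]; decide +kernel)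
    rw [hy, ← pow_mul]
    calc g ^ (8 * 7) = (g ^ 7 * g ^ 7) ^ 4 := by rw [← pow_add, ← pow_mul]
      _ = 1 := by rw [h3, one_pow]
  have hy1 : y ≠ 1 := by
    intro h
    rw [h, map_one] at hπy
    exact absurd hπy (by decide +kernel)
  have h7 : Fact (Nat.Prime 7) := ⟨by norm_num⟩
  have ho : orderOf y = 7 := orderOf_eq_prime hy7 hy1
  refine ⟨y, by rw [Subgroup.orderOf_coe, ho], ?_⟩
  have hpa : IsPE 2 a := ⟨2, by
    have h3 := key (a * a) (by rw [map_mul, ha]; decide +kernel)
    rw [show 2 ^ 2 = 4 by norm_num, ← h3, pow_succ, pow_succ, pow_two, mul_assoc (a * a) a a]⟩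
  have hpb : IsPE 2 (a⁻¹ * y) := ⟨3, by
    have h3 := key ((a⁻¹ * y) ^ 4) (by rw [map_pow, map_mul, map_inv, ha, hπy]; decide +kernel)
    rw [← pow_add] at h3
    exact h3⟩
  have h3 : PE 2 2 y := by
    have := hpa.pe.mul hpb.pe
    rwa [mul_inv_cancel_left] at this
  exact h3.map (centralizer ({L.t} : Set G)).subtype

/-- **`McL`** -/
theorem pw_McL {S : Type u} [Group S] [Finite S] [IsSimpleGroup S] (h : Spor.IsoMcL S) {p : ℕ} (hp : p.Prime)
    (hd : p ∣ Nat.card S) : PW p 70 S := by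
  obtain ⟨-, -, hcard, ⟨L⟩⟩ := TypeM.FactsMcL.facts h
  have hp' : p = 2 ∨ p = 3 ∨ p = 5 ∨ p = 7 ∨ p = 11 := by
    rw [hcard, show 898128000 = 2 ^ 7 * 3 ^ 6 * 5 ^ 3 * 7 * 11 by norm_num] at hd
    rcases (Nat.Prime.dvd_mul hp).1 hd with hd | hd
    · rcases (Nat.Prime.dvd_mul hp).1 hd with hd | hd
      · rcases (Nat.Prime.dvd_mul hp).1 hd with hd | hd
        · rcases (Nat.Prime.dvd_mul hp).1 hd with hd | hd
          · exact Or.inl ((Nat.prime_dvd_prime_iff_eq hp (by norm_num)).1 (hp.dvd_of_dvd_pow hd))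
          · exact Or.inr (Or.inl ((Nat.prime_dvd_prime_iff_eq hp (by norm_num)).1 (hp.dvd_of_dvd_pow hd)))
        · exact Or.inr (Or.inr (Or.inl ((Nat.prime_dvd_prime_iff_eq hp (by norm_num)).1 (hp.dvd_of_dvd_pow hd))))
      · exact Or.inr (Or.inr (Or.inr (Or.inl ((Nat.prime_dvd_prime_iff_eq hp (by norm_num)).1 hd))))
    · exact Or.inr (Or.inr (Or.inr (Or.inr ((Nat.prime_dvd_prime_iff_eq hp (by norm_num)).1 hd))))
  have hna : ¬ ∀ a b : S, a * b = b * a :=
    H253.TC.not_comm_of_card hcard (by norm_num) (p := 11) (by norm_num) (by norm_num) (by norm_num)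
  have hD : MinDeg S 6 :=
    minDeg_of_prime hcard (by norm_num) (l := 11) (by norm_num) (by norm_num) (by norm_num) (by norm_num)
      (by norm_num) (by norm_num) (by norm_num)
  have h11 := H904.McLCent.eleven h
  have h7 := H904.McLCent.seven h
  have h11' : ∀ y : S, orderOf y = 11 → Nat.card (centralizer ({y} : Set S)) ≤ 11 := fun y hy => by
    rw [← centralizer_zpowers_eq, (h11 (zpowers y) (by rw [Nat.card_zpowers, hy])).1]
  have h7' : ∀ y : S, orderOf y = 7 → Nat.card (centralizer ({y} : Set S)) ≤ 14 := fun y hy => by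
    rw [← centralizer_zpowers_eq]
    exact Nat.le_of_dvd (by norm_num) (h7 (zpowers y) (by rw [Nat.card_zpowers, hy])).1
  obtain ⟨y7, hy7⟩ := exists_order (K := S) (l := 7) (by norm_num) (by rw [hcard]; norm_num)
  obtain ⟨y11, hy11⟩ := exists_order (K := S) (l := 11) (by norm_num) (by rw [hcard]; norm_num)
  have hz7 : Nat.card (zpowers y7) = 7 := by rw [Nat.card_zpowers, hy7]
  have hz11 : Nat.card (zpowers y11) = 11 := by rw [Nat.card_zpowers, hy11]
  rcases hp' with rfl | rfl | rfl | rfl | rfl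
  · obtain ⟨y, hy, hy2⟩ := exists_seven L
    exact pw_of_pe hna hy2 hD (h7' y hy) (k := 8) (by norm_num) (by norm_num) (by norm_num)
  · exact pw_of_norm hna hp (l := 7) (k := 8) (by norm_num) hy7
      (dvd_relIndex hp (h7 _ hz7).2 (h7 _ hz7).1 (a := 1) (by norm_num) (by norm_num)) hD (h7' _ hy7) (by norm_num)
      (by norm_num) (by norm_num)
  · exact pw_of_norm hna hp (l := 11) (k := 6) (by norm_num) hy11
      (dvd_relIndex hp (h11 _ hz11).2 (h11 _ hz11).1.dvd (a := 1) (by norm_num) (by norm_num)) hD (h11' _ hy11)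
      (by norm_num) (by norm_num) (by norm_num)
  · exact pw_of_order hna hp hd (k := 8) hD h7' (by norm_num) (by norm_num) (by norm_num)
  · exact pw_of_order hna hp hd (k := 6) hD h11' (by norm_num) (by norm_num) (by norm_num)

end Cfsg.Agent.H269.Pw
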